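import Mathlib
import Cfsg.Agent.Lib.helper7.Br.Defs

/-!
# Project R1 (S4648): shared definitions

* `gof g`       : the group element `g` as an element of the group algebra `GA F G` (`Pi.single g 1`).
* `fnl φ`       : the linear functional `x ↦ ∑ g, x g * φ g` on `GA F G` attached to `φ : G → F`.
* `redFun`      : reduction of a complex-valued function modulo the maximal ideal.
-/

set_option autoImplicit false
set_option linter.unusedSectionVars false
set_option linter.unusedVariables false
set_option linter.style.haveILetI false
set_option linter.unusedSimpArgs false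

namespace Cfsg.Agent.Lib.helper7.R1

open Cfsg.Agent.Lib.helper7 Cfsg.Agent.Lib.helper7.Br

section ga

variable {F G : Type*} [CommRing F] [Group G] [Fintype G]

open Classical in
/-- the group element `g` as an element of the group algebra -/
noncomputable def gof (F : Type*) [CommRing F] (g : G) : GA F G := fun h => if h = g then 1 else 0

theorem gof_apply [DecidableEq G] (g h : G) : gof F g h = if h = g then 1 else 0 := by
  unfold gof
  split_ifs <;> rfl

theorem gof_self (g : G) : gof F g g = 1 := by
  classical
  rw [gof_apply, if_pos rfl]

theorem gof_mul_apply (h : G) (x : GA F G) (g : G) : (gof F h * x) g = x (h⁻¹ * g) := by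
  classical
  rw [GA.mul_apply, Finset.sum_eq_single h]
  · rw [gof_self, one_mul]
  · intro b _ hb
    rw [gof_apply, if_neg hb, zero_mul]
  · intro hh
    exact absurd (Finset.mem_univ h) hh

theorem mul_gof_apply (x : GA F G) (h g : G) : (x * gof F h) g = x (g * h⁻¹) := by
  classical
  rw [GA.mul_apply', Finset.sum_eq_single h]
  · rw [gof_self, mul_one]
  · intro b _ hb
    rw [gof_apply, if_neg hb, mul_zero]
  · intro hh
    exact absurd (Finset.mem_univ h) hh

theorem gof_mul (g h : G) : gof F g * gof F h = gof F (g * h) := by
  classical
  apply GA.ext
  intro k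
  rw [gof_mul_apply, gof_apply, gof_apply]
  have : g⁻¹ * k = h ↔ k = g * h := by
    constructor
    · intro e
      rw [← e]
      group
    · intro e
      rw [e]
      group
  simp only [this]

theorem gof_one : gof F (1 : G) = 1 := by
  classical
  apply GA.ext
  intro k
  rw [gof_apply, GA.one_apply]

theorem gof_pow (g : G) (n : ℕ) : gof F g ^ n = gof F (g ^ n) := by
  induction n with
  | zero => rw [pow_zero, pow_zero, gof_one]
  | succ n ih => rw [pow_succ, pow_succ, ih, gof_mul]

/-- every element of the group algebra is the combination of the group elements with its own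
coefficients -/
theorem eq_sum_gof (x : GA F G) : x = ∑ g : G, x g • gof F g := by
  classical
  apply GA.ext
  intro k
  rw [GA.sum_apply, Finset.sum_eq_single k]
  · rw [GA.smul_apply, gof_self, mul_one]
  · intro b _ hb
    rw [GA.smul_apply, gof_apply, if_neg (Ne.symm hb), mul_zero]
  · intro hh
    exact absurd (Finset.mem_univ k) hh

/-- the linear functional on the group algebra attached to a function on the group -/
noncomputable def fnl (φ : G → F) : GA F G →ₗ[F] F where
  toFun x := ∑ g : G, x g * φ g
  map_add' x y := by
    simp only [GA.add_apply, add_mul, Finset.sum_add_distrib]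
  map_smul' c x := by
    simp only [GA.smul_apply, RingHom.id_apply, smul_eq_mul, Finset.mul_sum, mul_assoc]

theorem fnl_apply (φ : G → F) (x : GA F G) : fnl φ x = ∑ g : G, x g * φ g := rfl

theorem fnl_gof (φ : G → F) (g : G) : fnl φ (gof F g) = φ g := by
  classical
  rw [fnl_apply, Finset.sum_eq_single g]
  · rw [gof_self, one_mul]
  · intro b _ hb
    rw [gof_apply, if_neg hb, zero_mul]
  · intro hh
    exact absurd (Finset.mem_univ g) hh

/-- a linear functional on the group algebra is determined by its values on the group elements -/
theorem fnl_of_linear (τ : GA F G →ₗ[F] F) : τ = fnl (fun g => τ (gof F g)) := by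
  apply LinearMap.ext
  intro x
  conv_lhs => rw [eq_sum_gof x]
  rw [map_sum, fnl_apply]
  refine Finset.sum_congr rfl fun g _ => ?_
  rw [map_smul, smul_eq_mul]

end ga

section red

variable {G : Type*} [Group G] [Fintype G]
variable {M : Ideal Cfsg.AlgInt} (hMp : M.IsPrime)

/-- reduction modulo the maximal ideal of a complex-valued function on `G` (meaningful when all
values are local integers) -/
noncomputable def redFun (χ : G → ℂ) : G → h7_resRing M hMp := fun g => h7_res M hMp (χ g)

theorem redFun_apply (χ : G → ℂ) (g : G) : redFun hMp χ g = h7_res M hMp (χ g) := rfl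

end red

end Cfsg.Agent.Lib.helper7.R1
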