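import Mathlib
import Cfsg.Agent.Lib.helper7.R1.Defs
import Cfsg.Agent.Lib.Helper21.BrAC
import Cfsg.Agent.Lib.Helper1.BrCEN
import Cfsg.Agent.Lib.Helper24.BrRK
import Cfsg.Agent.Lib.Helper24.R1TF
import Cfsg.Agent.Lib.Helper1.R1DEL
import Cfsg.Agent.Lib.Helper13.R1INT
import Cfsg.Agent.Lib.Helper27.R1TRP
import Cfsg.Agent.Lib.Helper13.R1SPAN
import Cfsg.Agent.Lib.Helper27.R1ACT
import Cfsg.Agent.Lib.helper15.R1RKL

set_option autoImplicit false
set_option linter.unusedSectionVars false
set_option linter.unusedVariables false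
set_option linter.style.haveILetI false

namespace Cfsg.Agent.Lib.helper7.R1

open Cfsg.Agent.Lib.helper7 Cfsg.Agent.Lib.helper7.Br
open Cfsg.Agent.Lib.Helper24.R1 Cfsg.Agent.Lib.Helper1.R1 Cfsg.Agent.Lib.Helper13.R1 Cfsg.Agent.Lib.Helper27.R1
open Cfsg.Agent.Lib.helper15.R1

variable {G : Type*} [Group G] [Fintype G]
variable {M : Ideal Cfsg.AlgInt}

/-- multiplying by the block idempotent does not change the image in the block algebra -/
theorem toBlock_eBar_mul (hMp : M.IsPrime) (B : Set (Cfsg.IrrCharacter G)) (hB : Cfsg.IsPBlock M B)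
    (x : GA (h7_resRing M hMp) G) :
    toBlock hMp B hB (eBar hMp B * x) = toBlock hMp B hB x :=
  cval_injective _ (by
    rw [cval_toBlock, cval_toBlock, ← mul_assoc, (eBar_idem hMp B hB).eq])

/-- LINK, first half: a functional on the block algebra killing commutators and nilpotent elements is,
as a function on `G`, a combination of the reductions of the characters in `B`. -/
theorem trace_fnl_mem_span {p : ℕ} [Fact p.Prime] (hM : Cfsg.IsPModular p M)
    (B : Set (Cfsg.IrrCharacter G)) (hB : Cfsg.IsPBlock M B)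
    (τ : BlockAlg hM.2.1.isPrime B hB →ₗ[h7_resRing M hM.2.1.isPrime] h7_resRing M hM.2.1.isPrime)
    (hτc : ∀ a b, τ (a * b) = τ (b * a)) (hτn : ∀ a, IsNilpotent a → τ a = 0) :
    (fun g : G => τ (toBlock hM.2.1.isPrime B hB (gof _ g))) ∈
      Submodule.span (h7_resRing M hM.2.1.isPrime)
        ((fun χ : Cfsg.IrrCharacter G => redFun hM.2.1.isPrime (χ : G → ℂ)) '' B) := by
  classical
  haveI : Fintype (Cfsg.IrrCharacter G) := Fintype.ofFinite _
  set φ : G → h7_resRing M hM.2.1.isPrime := fun g => τ (toBlock hM.2.1.isPrime B hB (gof _ g)) with hφ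
  obtain ⟨hφc, hφp⟩ := trace_fnl_props hM B hB τ hτc hτn
  obtain ⟨c, hc⟩ := classfn_mem_span_red hM
    (fun s hs => delta_decomp hM s hs (fun χ s P hP => avg_isIntegral χ s P hP)) φ hφc
    (fun x y hxy hx _ => hφp x y hxy hx)
  -- the functional `τ ∘ toBlock` is `fnl φ`
  set L : GA (h7_resRing M hM.2.1.isPrime) G →ₗ[h7_resRing M hM.2.1.isPrime] h7_resRing M hM.2.1.isPrime := τ ∘ₗ toBlock hM.2.1.isPrime B hB with hL
  have hLφ : L = fnl φ := fnl_of_linear L
  have hkey : ∀ g : G, φ g = ∑ h : G, eBar hM.2.1.isPrime B h * φ (h * g) := by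
    intro g
    have h1 : φ g = L (eBar hM.2.1.isPrime B * gof (h7_resRing M hM.2.1.isPrime) g) := by
      show τ (toBlock hM.2.1.isPrime B hB (gof (h7_resRing M hM.2.1.isPrime) g)) = τ (toBlock hM.2.1.isPrime B hB (eBar hM.2.1.isPrime B * gof (h7_resRing M hM.2.1.isPrime) g))
      rw [toBlock_eBar_mul]
    rw [h1, hLφ, fnl_apply]
    refine Fintype.sum_bijective (fun k => k * g⁻¹) ?_ _ _ fun k => ?_
    · refine ⟨fun a b hab => mul_right_cancel hab, fun b => ⟨b * g, by group⟩⟩
    · rw [mul_gof_apply]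
      congr 2
      group
  -- now cut with the block idempotent
  have hfin : ∀ g : G, φ g = ∑ χ : Cfsg.IrrCharacter G,
      (if χ ∈ B then c χ else 0) * redFun hM.2.1.isPrime (χ : G → ℂ) g := by
    intro g
    rw [hkey g]
    have h2 : ∀ h : G, φ (h * g) = ∑ χ : Cfsg.IrrCharacter G, c χ * redFun hM.2.1.isPrime (χ : G → ℂ) (h * g) := by
      intro h
      rw [hc (h * g), finsum_eq_sum_of_fintype]
    simp_rw [h2, Finset.mul_sum]
    rw [Finset.sum_comm]
    refine Finset.sum_congr rfl fun χ _ => ?_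
    have h3 := red_block_action hM.2.1.isPrime B hB χ g
    have h4 : ∑ h : G, eBar hM.2.1.isPrime B h * (c χ * redFun hM.2.1.isPrime (χ : G → ℂ) (h * g)) =
        c χ * ∑ h : G, eBar hM.2.1.isPrime B h * redFun hM.2.1.isPrime (χ : G → ℂ) (h * g) := by
      rw [Finset.mul_sum]
      refine Finset.sum_congr rfl fun h _ => ?_
      ring
    rw [h4, h3]
    split_ifs <;> simp
  have hφeq : φ = ∑ χ : Cfsg.IrrCharacter G,
      (if χ ∈ B then c χ else 0) • redFun hM.2.1.isPrime (χ : G → ℂ) := by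
    funext g
    rw [hfin g, Finset.sum_apply]
    rfl
  show φ ∈ _
  rw [hφeq]
  apply Submodule.sum_mem
  intro χ _
  by_cases hχ : χ ∈ B
  · rw [if_pos hχ]
    exact Submodule.smul_mem _ _ (Submodule.subset_span ⟨χ, hχ, rfl⟩)
  · rw [if_neg hχ, zero_smul]
    exact Submodule.zero_mem _

/-- LINK: a block of rank one has a unique simple module: `A / rad A` is a full matrix algebra. -/
theorem link_rank_one {p : ℕ} [Fact p.Prime] (hM : Cfsg.IsPModular p M)
    (B : Set (Cfsg.IrrCharacter G)) (hB : Cfsg.IsPBlock M B) (hl : Cfsg.blockRank p B = 1) :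
    NilSet ((Ring.jacobson (BlockAlg hM.2.1.isPrime B hB) :
        Ideal (BlockAlg hM.2.1.isPrime B hB)) : Set (BlockAlg hM.2.1.isPrime B hB)) ∧
      ∃ n : ℕ, Nonempty ((BlockAlg hM.2.1.isPrime B hB ⧸
        Ring.jacobson (BlockAlg hM.2.1.isPrime B hB)) ≃ₐ[h7_resRing M hM.2.1.isPrime]
          Matrix (Fin (n + 1)) (Fin (n + 1)) (h7_resRing M hM.2.1.isPrime)) := by
  classical
  haveI : IsAlgClosed (h7_resRing M hM.2.1.isPrime) := Cfsg.Agent.Lib.Helper21.Br.resRing_isAlgClosed hM
  set A := BlockAlg hM.2.1.isPrime B hB with hA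
  obtain ⟨l, τ, hli, hc, hn, hne, h1⟩ := exists_trace_family (F := h7_resRing M hM.2.1.isPrime) (A := A)
  -- the map from functionals on `A` to functions on `G`
  set Ψ : (A →ₗ[h7_resRing M hM.2.1.isPrime] h7_resRing M hM.2.1.isPrime) →ₗ[h7_resRing M hM.2.1.isPrime] (G → h7_resRing M hM.2.1.isPrime) :=
    { toFun := fun τ g => τ (toBlock hM.2.1.isPrime B hB (gof (h7_resRing M hM.2.1.isPrime) g))
      map_add' := fun _ _ => rfl
      map_smul' := fun _ _ => rfl } with hΨ
  have hΨinj : Function.Injective Ψ := by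
    rw [← LinearMap.ker_eq_bot, LinearMap.ker_eq_bot']
    intro σ hσ
    apply LinearMap.ext
    intro a
    obtain ⟨x, rfl⟩ := toBlock_surjective hM.2.1.isPrime B hB a
    have h2 : σ ∘ₗ toBlock hM.2.1.isPrime B hB = fnl (fun g => σ (toBlock hM.2.1.isPrime B hB (gof (h7_resRing M hM.2.1.isPrime) g))) :=
      fnl_of_linear _
    have h3 : (fun g => σ (toBlock hM.2.1.isPrime B hB (gof (h7_resRing M hM.2.1.isPrime) g))) = 0 := hσ
    have h4 := congrArg (fun L => L x) h2
    simp only [LinearMap.comp_apply] at h4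
    rw [h4, h3, fnl_apply]
    simp
  set S := Submodule.span (h7_resRing M hM.2.1.isPrime) ((fun χ : Cfsg.IrrCharacter G => redFun hM.2.1.isPrime (χ : G → ℂ)) '' B) with hS
  have hmem : ∀ i, Ψ (τ i) ∈ S := fun i => trace_fnl_mem_span hM B hB (τ i) (hc i) (hn i)
  have hli2 : LinearIndependent (h7_resRing M hM.2.1.isPrime) (fun i => Ψ (τ i)) := hli.map' Ψ (LinearMap.ker_eq_bot.mpr hΨinj)
  have hli3 : LinearIndependent (h7_resRing M hM.2.1.isPrime) (fun i => (⟨Ψ (τ i), hmem i⟩ : S)) := by
    apply LinearIndependent.of_comp S.subtype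
    exact hli2
  have hle : l ≤ 1 := by
    have h5 := hli3.fintype_card_le_finrank
    rw [Fintype.card_fin] at h5
    have h6 := finrank_span_red_le hM B
    rw [hl] at h6
    exact h5.trans h6
  -- the block algebra is nontrivial
  have hnt : Nontrivial A := by
    by_contra hA0
    rw [not_nontrivial_iff_subsingleton] at hA0
    have hZ := Cfsg.Agent.Lib.Helper1.Br.finrank_center_blockAlg hM.2.1.isPrime B hB
      (fun E hE hR => Cfsg.Agent.Lib.Helper24.Br.rank_red_idem hM.2.1.isPrime E hE hR)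
    have h0 : Module.finrank (h7_resRing M hM.2.1.isPrime) (Subalgebra.center (h7_resRing M hM.2.1.isPrime) A) = 0 := by
      haveI : Subsingleton (Subalgebra.center (h7_resRing M hM.2.1.isPrime) A) := inferInstance
      exact Module.finrank_zero_of_subsingleton
    rw [h0] at hZ
    have hB0 : B = ∅ := by
      haveI : Finite B := Set.toFinite B
      have := Nat.card_eq_zero.mp hZ.symm
      rcases this with h | h
      · exact Set.isEmpty_coe_sort.mp h
      · exact absurd ‹Finite B› (not_finite_iff_infinite.mpr h)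
    have : Cfsg.blockRank p B = 0 := by
      unfold Cfsg.blockRank
      rw [hB0, Set.image_empty, Submodule.span_empty]
      exact finrank_bot _ _
    omega
  have hl1 : l = 1 := by
    have := hne hnt
    omega
  exact h1 hl1

end Cfsg.Agent.Lib.helper7.R1
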