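import Mathlib
import Cfsg.Agent.Lib.helper7.R1.Defs
import Cfsg.Agent.Lib.Helper10.R1K4A
import Cfsg.Agent.Lib.Helper10.R1K4B
import Cfsg.Agent.Lib.Helper25.R1K4C

set_option autoImplicit false
set_option linter.unusedSectionVars false
set_option linter.unusedVariables false

namespace Cfsg.Agent.Lib.helper7.R1

open Cfsg.Agent.Lib.helper7 Cfsg.Agent.Lib.helper7.Br Cfsg.Agent.Lib.Helper10.R1 Cfsg.Agent.Lib.Helper25.R1

variable {F : Type*} [Field F]

/-- a vector space of dimension at most two is spanned by two vectors -/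
theorem exists_two_span {Q : Type*} [AddCommGroup Q] [Module F Q] [FiniteDimensional F Q]
    (h : Module.finrank F Q ≤ 2) : ∃ q₁ q₂ : Q, ∀ q : Q, ∃ c d : F, q = c • q₁ + d • q₂ := by
  have b := Module.finBasis F Q
  generalize hm : Module.finrank F Q = m at b h
  interval_cases m
  · refine ⟨0, 0, fun q => ⟨0, 0, ?_⟩⟩
    have := b.sum_repr q
    simp at this
    rw [← this]
    simp
  · refine ⟨b 0, 0, fun q => ⟨b.repr q 0, 0, ?_⟩⟩
    have := b.sum_repr q
    rw [Fin.sum_univ_one] at this
    rw [← this]
    simp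
  · refine ⟨b 0, b 1, fun q => ⟨b.repr q 0, b.repr q 1, ?_⟩⟩
    have := b.sum_repr q
    rw [Fin.sum_univ_two] at this
    exact this.symm

/-- K4 : a local symmetric algebra whose centre has dimension at most four is commutative
(Külshammer). -/
theorem local_sym_comm {Λ : Type*} [Ring Λ] [Algebra F Λ] [FiniteDimensional F Λ]
    (lam : Λ →ₗ[F] F) (hlam : IsSymForm lam)
    (N : Ideal Λ) (hNr : ∀ x ∈ N, ∀ y : Λ, x * y ∈ N) (hNnil : NilSet (N : Set Λ))
    (hloc : ∀ x : Λ, ∃ α : F, x - algebraMap F Λ α ∈ N)
    (hZ : Module.finrank F (Subalgebra.center F Λ) ≤ 4) :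
    ∀ x y : Λ, x * y = y * x := by
  rcases subsingleton_or_nontrivial Λ with hsub | hnt
  · intro x y
    exact Subsingleton.elim _ _
  set J : Submodule F Λ := N.restrictScalars F with hJ
  have hmemJ : ∀ x, x ∈ J ↔ x ∈ N := fun x => Iff.rfl
  set J2 : Submodule F Λ := J * J with hJ2
  have hJ2J : J2 ≤ J := by
    rw [hJ2, Submodule.mul_le]
    intro a _ b hb
    exact N.mul_mem_left a hb
  by_cases hne : J2 = ⊥
  · -- `J² = 0`
    intro x y
    obtain ⟨α, hα⟩ := hloc x
    obtain ⟨β, hβ⟩ := hloc y
    set n := x - algebraMap F Λ α with hn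
    set n' := y - algebraMap F Λ β with hn'
    have hx : x = algebraMap F Λ α + n := by rw [hn]; abel
    have hy : y = algebraMap F Λ β + n' := by rw [hn']; abel
    have h1 : n * n' = 0 := by
      have : n * n' ∈ J2 := Submodule.mul_mem_mul hα hβ
      rwa [hne, Submodule.mem_bot] at this
    have h2 : n' * n = 0 := by
      have : n' * n ∈ J2 := Submodule.mul_mem_mul hβ hα
      rwa [hne, Submodule.mem_bot] at this
    rw [hx, hy]
    have c1 := Algebra.commutes α n'
    have c2 := Algebra.commutes β n
    have c3 := Algebra.commutes α (algebraMap F Λ β)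
    simp only [add_mul, mul_add]
    rw [c1, ← c2, c3, h1, h2]
    abel
  · obtain ⟨hbound0, heq0⟩ := center_bound lam hlam N hNr hNnil hloc hne
    have hbound : Module.finrank F Λ + 1 ≤ Module.finrank F (Subalgebra.center F Λ) +
        Module.finrank F ↥J2 := hbound0
    have heq : Module.finrank F Λ + 1 = Module.finrank F (Subalgebra.center F Λ) +
        Module.finrank F ↥J2 → ∀ y ∈ J2, lam y = 0 →
          y ∈ Submodule.span F {c : Λ | ∃ a b : Λ, c = a * b - b * a} := heq0
    -- `dim J + 1 = dim Λ`
    have h1N : (1 : Λ) ∉ J := by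
      intro h1
      obtain ⟨m, hm⟩ := hNnil
      have := hm (List.replicate m 1) (by simp) (by
        intro x hx
        rw [List.mem_replicate] at hx
        rw [hx.2]; exact h1)
      simp at this
    have hdisj : Disjoint (Submodule.span F {(1 : Λ)}) J := by
      rw [Submodule.disjoint_def]
      intro x hx hxJ
      rw [Submodule.mem_span_singleton] at hx
      obtain ⟨c, rfl⟩ := hx
      by_cases hc : c = 0
      · rw [hc, zero_smul]
      · exfalso
        apply h1N
        have := J.smul_mem c⁻¹ hxJ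
        rwa [smul_smul, inv_mul_cancel₀ hc, one_smul] at this
    have hsup : Submodule.span F {(1 : Λ)} ⊔ J = ⊤ := by
      rw [eq_top_iff]
      intro x _
      obtain ⟨α, hα⟩ := hloc x
      have : x = α • (1 : Λ) + (x - algebraMap F Λ α) := by
        rw [Algebra.algebraMap_eq_smul_one]; abel
      rw [this]
      exact Submodule.add_mem_sup (Submodule.smul_mem _ _ (Submodule.mem_span_singleton_self 1)) hα
    have hdimJ : Module.finrank F J + 1 = Module.finrank F Λ := by
      have h := Submodule.finrank_sup_add_finrank_inf_eq (Submodule.span F {(1 : Λ)}) J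
      rw [disjoint_iff.mp hdisj, finrank_bot, add_zero, hsup, finrank_top,
        finrank_span_singleton (one_ne_zero)] at h
      omega
    -- the quotient `J / J²`
    set S : Submodule F J := J2.comap J.subtype with hS
    have hSrank : Module.finrank F S = Module.finrank F J2 := by
      have : S = (Submodule.comap J.subtype J2) := rfl
      rw [this]
      exact (Submodule.comapSubtypeEquivOfLe hJ2J).finrank_eq
    have hquot := Submodule.finrank_quotient_add_finrank S
    have hQle : Module.finrank F (J ⧸ S) ≤ 2 := by omega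
    obtain ⟨q₁, q₂, hq⟩ := exists_two_span (F := F) hQle
    obtain ⟨a, rfl⟩ := Submodule.Quotient.mk_surjective S q₁
    obtain ⟨b, rfl⟩ := Submodule.Quotient.mk_surjective S q₂
    have hgen : ∀ y ∈ N, ∃ c d : F, y - c • (a : Λ) - d • (b : Λ) ∈ J2 := by
      intro y hy
      obtain ⟨c, d, hcd⟩ := hq (Submodule.Quotient.mk ⟨y, hy⟩)
      refine ⟨c, d, ?_⟩
      have h1 : (Submodule.Quotient.mk (⟨y, hy⟩ - c • a - d • b : J) : J ⧸ S) = 0 := by
        rw [Submodule.Quotient.mk_sub, Submodule.Quotient.mk_sub, Submodule.Quotient.mk_smul,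
          Submodule.Quotient.mk_smul, hcd]
        abel
      rw [Submodule.Quotient.mk_eq_zero] at h1
      exact h1
    by_cases hQ2 : Module.finrank F (J ⧸ S) = 2
    · have hEq : Module.finrank F Λ + 1 = Module.finrank F (Subalgebra.center F Λ) +
          Module.finrank F ↥J2 := by omega
      exact comm_of_gen_two lam hlam N hNr hNnil hloc a b a.2 b.2 hgen (heq hEq)
    · -- dimension at most one: one generator suffices
      have hQ1 : Module.finrank F (J ⧸ S) ≤ 1 := by omega
      obtain ⟨q, hq1⟩ : ∃ q : J ⧸ S, ∀ q' : J ⧸ S, ∃ c : F, q' = c • q := by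
        rcases Nat.le_one_iff_eq_zero_or_eq_one.mp hQ1 with h0 | h1
        · haveI : Subsingleton (J ⧸ S) := Module.finrank_zero_iff.mp h0
          exact ⟨0, fun q' => ⟨0, Subsingleton.elim _ _⟩⟩
        · obtain ⟨v, hv⟩ := finrank_eq_one_iff'.mp h1
          exact ⟨v, fun q' => by
            obtain ⟨c, hc⟩ := hv.2 q'
            exact ⟨c, hc.symm⟩⟩
      obtain ⟨a', rfl⟩ := Submodule.Quotient.mk_surjective S q
      refine comm_of_gen_one N hNr hNnil hloc (a' : Λ) a'.2 ?_
      intro y hy
      obtain ⟨c, hc⟩ := hq1 (Submodule.Quotient.mk ⟨y, hy⟩)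
      refine ⟨c, ?_⟩
      have h1 : (Submodule.Quotient.mk (⟨y, hy⟩ - c • a' : J) : J ⧸ S) = 0 := by
        rw [Submodule.Quotient.mk_sub, Submodule.Quotient.mk_smul, hc]
        abel
      rw [Submodule.Quotient.mk_eq_zero] at h1
      exact h1

end Cfsg.Agent.Lib.helper7.R1
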