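import Mathlib
import Cfsg.Agent.Lib.helper7.R1.Defs
import Cfsg.Agent.Lib.Helper13.BrMU
import Cfsg.Agent.Lib.Helper13.BrMD1
import Cfsg.Agent.Lib.Helper20.BrMD234
import Cfsg.Agent.Lib.Helper1.R1MD5
import Cfsg.Agent.Lib.helper7.R1.K4

/-!
Project R1: Külshammer's theorem for centres of dimension at most four.  A finite-dimensional symmetric
algebra `A` over an algebraically closed field with `A / rad A` a full matrix algebra of degree `f` and
`dim Z(A) ≤ 4` has dimension `f² dim Z(A)`, and its projective indecomposable module has dimension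
`f dim Z(A)`.
-/

set_option autoImplicit false
set_option linter.unusedSectionVars false
set_option linter.unusedVariables false

namespace Cfsg.Agent.Lib.helper7.R1

open Cfsg.Agent.Lib.helper7 Cfsg.Agent.Lib.helper7.Br Cfsg.Agent.Lib.Helper1.R1

variable {F A : Type*} [Field F] [Ring A] [Algebra F A]

theorem kuel4 [IsAlgClosed F] [FiniteDimensional F A]
    (lam : A →ₗ[F] F) (hlam : IsSymForm lam)
    (hZ : Module.finrank F (Subalgebra.center F A) ≤ 4)
    (hJnil : NilSet ((Ring.jacobson A : Ideal A) : Set A)) (n : ℕ)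
    (φ : (A ⧸ Ring.jacobson A) ≃ₐ[F] Matrix (Fin (n + 1)) (Fin (n + 1)) F) :
    ∃ ε : A, IsIdempotentElem ε ∧
      Module.finrank F A = (n + 1) ^ 2 * Module.finrank F (Subalgebra.center F A) ∧
      Module.finrank F ↥(LinearMap.range (LinearMap.mulRight F ε)) =
        (n + 1) * Module.finrank F (Subalgebra.center F A) := by
  obtain ⟨u, hu, hφ⟩ :=
    Cfsg.Agent.Lib.Helper13.Br.exists_matUnits (Ring.jacobson A) hJnil (n + 1) φ
  have h1 := Cfsg.Agent.Lib.Helper13.Br.matUnits_finrank (F := F) u hu
  have h2 := Cfsg.Agent.Lib.Helper20.Br.matUnits_center (F := F) u hu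
  have h3 := Cfsg.Agent.Lib.Helper20.Br.matUnits_form u hu lam hlam
  set C := cenU F u with hC
  set N : Ideal C := Ideal.comap (C.val : C →+* A) (Ring.jacobson A) with hN
  have hmemN : ∀ x : C, x ∈ N ↔ (x : A) ∈ Ring.jacobson A := fun x => Iff.rfl
  have hcomm : ∀ x y : C, x * y = y * x := by
    refine local_sym_comm (lamC u lam) h3 N ?_ ?_ ?_ ?_
    · intro x hx y
      rw [hmemN] at hx ⊢
      rw [Subalgebra.coe_mul]
      exact Ideal.mul_mem_right _ _ hx
    · obtain ⟨m, hm⟩ := hJnil
      refine ⟨m, fun l hl hmem => ?_⟩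
      have h4 := hm (l.map (fun x : C => (x : A))) (by rw [List.length_map, hl]) (by
        intro x hx
        obtain ⟨y, hy, rfl⟩ := List.mem_map.mp hx
        exact (hmemN y).mp (hmem y hy))
      apply Subtype.ext
      have h5 : ((l.prod : C) : A) = (l.map (fun x : C => (x : A))).prod :=
        map_list_prod C.val l
      rw [h5, h4]
      rfl
    · intro x
      obtain ⟨α, hα⟩ := Cfsg.Agent.Lib.Helper20.Br.matUnits_local (Ring.jacobson A) (n + 1) φ u hφ
        (x : A) x.2
      exact ⟨α, hα⟩
    · rw [h2]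
      exact hZ
  have hcen : Module.finrank F (Subalgebra.center F C) = Module.finrank F C := by
    have htop : Subalgebra.center F C = ⊤ := by
      rw [eq_top_iff]
      intro x _
      rw [Subalgebra.mem_center_iff]
      intro y
      exact hcomm y x
    rw [htop]
    exact (Subalgebra.topEquiv (R := F) (A := C)).toLinearEquiv.finrank_eq
  have hCZ : Module.finrank F C = Module.finrank F (Subalgebra.center F A) := by
    rw [← hcen, h2]
  have hidem : IsIdempotentElem (u 0 0) := by
    unfold IsIdempotentElem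
    rw [hu.1 0 0 0 0, if_pos rfl]
  refine ⟨u 0 0, hidem, ?_, ?_⟩
  · rw [h1, hCZ]
  · have h5 := matUnits_finrank_col (F := F) u hu
    rw [h1, hCZ] at h5
    have h6 : (n + 1) * ((n + 1) * Module.finrank F (Subalgebra.center F A)) =
        (n + 1) * Module.finrank F ↥(LinearMap.range (LinearMap.mulRight F (u 0 0))) := by
      rw [← h5]
      ring
    exact (Nat.eq_of_mul_eq_mul_left (Nat.succ_pos n) h6).symm

end Cfsg.Agent.Lib.helper7.R1
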