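import Mathlib
import Cfsg.Agent.Lib.helper7.R1.Defs
import Cfsg.Agent.Lib.helper7.Br.Sym
import Cfsg.Agent.Lib.helper7.Br.Dim
import Cfsg.Agent.Lib.helper7.HKS8
import Cfsg.Agent.Lib.Helper21.BrAC
import Cfsg.Agent.Lib.Helper1.BrCEN
import Cfsg.Agent.Lib.Helper24.BrRK
import Cfsg.Agent.Lib.Helper25.R1CH
import Cfsg.Agent.Lib.Helper1.R1AR
import Cfsg.Agent.Lib.Helper10.R1PJ
import Cfsg.Agent.Lib.helper7.R1.Link
import Cfsg.Agent.Lib.helper7.R1.Kuel4

/-!
Project R1: a block with one irreducible Brauer character and at most four irreducible characters has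
defect groups of order `k(B)`.
-/

set_option autoImplicit false
set_option linter.unusedSectionVars false
set_option linter.unusedVariables false
set_option linter.style.haveILetI false

namespace Cfsg.Agent.Lib.helper7.R1

open Cfsg.Agent.Lib.helper7 Cfsg.Agent.Lib.helper7.Br Cfsg.Agent.Lib.Helper25.R1 Cfsg.Agent.Lib.Helper1.R1 Cfsg.Agent.Lib.Helper10.R1

instance cornerIsScalarTower {F S : Type*} [Field F] [Ring S] [Algebra F S] {e : S}
    (he : IsIdempotentElem e) : IsScalarTower F he.Corner he.Corner :=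
  ⟨fun c x y => cval_injective he (by simp [smul_mul_assoc])⟩

/-- the projective module `A ε` inside the block algebra and inside the group algebra have the same
dimension -/
theorem finrank_range_mulRight_cval {G : Type*} [Group G] [Fintype G] {M : Ideal Cfsg.AlgInt}
    (hMp : M.IsPrime) (B : Set (Cfsg.IrrCharacter G)) (hB : Cfsg.IsPBlock M B)
    (ε : BlockAlg hMp B hB) :
    Module.finrank (h7_resRing M hMp)
        ↥(LinearMap.range (LinearMap.mulRight (h7_resRing M hMp) (cval (eBar_idem hMp B hB) ε))) =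
      Module.finrank (h7_resRing M hMp)
        ↥(LinearMap.range (LinearMap.mulRight (h7_resRing M hMp) ε)) := by
  set he := eBar_idem hMp B hB with hhe
  set F := h7_resRing M hMp with hF
  have hinj : Function.Injective (cvalLin (F := F) he) := cval_injective he
  have hmap : Submodule.map (cvalLin (F := F) he) (LinearMap.range (LinearMap.mulRight F ε)) =
      LinearMap.range (LinearMap.mulRight F (cval he ε)) := by
    ext y
    constructor
    · rintro ⟨_, ⟨x, rfl⟩, rfl⟩
      exact ⟨cval he x, rfl⟩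
    · rintro ⟨x, rfl⟩
      refine ⟨toBlock hMp B hB x * ε, ⟨toBlock hMp B hB x, rfl⟩, ?_⟩
      show cval he (toBlock hMp B hB x * ε) = x * cval he ε
      rw [cval_mul, cval_toBlock, eBar_central hMp B x, mul_assoc, (cval_mem he ε).1]
  rw [← hmap]
  exact (Submodule.equivMapOfInjective _ hinj _).finrank_eq.symm

theorem card_defect_eq {G : Type*} [Group G] [Finite G] (p : ℕ) [Fact p.Prime]
    (M : Ideal Cfsg.AlgInt) (hM : Cfsg.IsPModular p M) (B : Set (Cfsg.IrrCharacter G))
    (hB : Cfsg.IsPBlock M B) (D : Subgroup G) (hD : Cfsg.IsDefectGroup p M B D)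
    (hl : Cfsg.blockRank p B = 1) (hk : Nat.card B ≤ 4) :
    Nat.card D = Nat.card B := by
  classical
  haveI : Fintype G := Fintype.ofFinite G
  haveI : Fintype (Cfsg.IrrCharacter G) := Fintype.ofFinite _
  have hp : p.Prime := Fact.out
  haveI : IsAlgClosed (h7_resRing M hM.2.1.isPrime) :=
    Cfsg.Agent.Lib.Helper21.Br.resRing_isAlgClosed hM
  haveI : CharP (h7_resRing M hM.2.1.isPrime) p := h7_resRing_charP hM
  obtain ⟨lam, hlam⟩ := symForm_blockAlg hM.2.1.isPrime B hB
  have hZ := Cfsg.Agent.Lib.Helper1.Br.finrank_center_blockAlg hM.2.1.isPrime B hB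
    (fun E hE hR => Cfsg.Agent.Lib.Helper24.Br.rank_red_idem hM.2.1.isPrime E hE hR)
  obtain ⟨hJnil, n, ⟨φ⟩⟩ := link_rank_one hM B hB hl
  obtain ⟨ε, hε, hdimA, hdimP⟩ := kuel4 lam hlam (by rw [hZ]; exact hk) hJnil n φ
  rw [hZ] at hdimA hdimP
  have hdim := finrank_blockAlg hM.2.1.isPrime B hB
    (fun E hE hR => Cfsg.Agent.Lib.Helper24.Br.rank_red_idem hM.2.1.isPrime E hE hR)
  obtain ⟨g₀, d, hg₀, hdpos, hdeg, hsum, hval, hcoef⟩ := rank_one_degrees p M hM B hB D hD hl
  rw [hdimA, hcoef] at hdim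
  have h1 : g₀ ^ 2 * p ^ Cfsg.blockDefect p B = Nat.card B * (n + 1) ^ 2 := by
    have : ((n + 1) ^ 2 * Nat.card B : ℕ) = g₀ ^ 2 * p ^ Cfsg.blockDefect p B := by
      exact_mod_cast hdim
    rw [← this]
    ring
  -- the Sylow subgroup
  obtain ⟨P⟩ : Nonempty (Sylow p G) := inferInstance
  have hPcard : Nat.card P = p ^ (Nat.card G).factorization p := Sylow.card_eq_multiplicity P
  have hεG : IsIdempotentElem (cval (eBar_idem hM.2.1.isPrime B hB) ε) := by
    unfold IsIdempotentElem
    rw [← cval_mul, hε.eq]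
  have hPJ := pgroup_dvd_finrank (F := h7_resRing M hM.2.1.isPrime) p (P : Subgroup G) P.isPGroup'
    (cval (eBar_idem hM.2.1.isPrime B hB) ε) hεG
  rw [finrank_range_mulRight_cval, hdimP, hPcard] at hPJ
  have hkpos : 0 < Nat.card B := by
    haveI : Finite B := Set.toFinite B
    obtain ⟨χ₀, rfl⟩ := hB
    haveI : Nonempty (Cfsg.blockOf M (χ₀ : G → ℂ)) :=
      ⟨⟨χ₀, h7_sameBlock_refl hM.2.1.isPrime _⟩⟩
    exact Nat.card_pos
  have h2 : p ^ (Nat.card G).factorization p ∣ Nat.card B * (n + 1) := by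
    rw [mul_comm]
    exact hPJ
  have hdvd := arith_r1 p _ _ g₀ (n + 1) (Nat.card B) hp hg₀ (Nat.succ_pos n) hkpos h1 h2 hval
  -- `k(B) ≤ Σ d² = p^d`
  have hge : Nat.card B ≤ p ^ Cfsg.blockDefect p B := by
    rw [← hsum]
    rw [finsum_mem_eq_finite_toFinset_sum _ (Set.toFinite B), Nat.card_eq_card_finite_toFinset (Set.toFinite B)]
    rw [Finset.card_eq_sum_ones]
    apply Finset.sum_le_sum
    intro χ hχ
    have := hdpos χ ((Set.Finite.mem_toFinset _).mp hχ)
    exact Nat.one_le_pow _ _ this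
  have hle : p ^ Cfsg.blockDefect p B ≤ Nat.card B := Nat.le_of_dvd hkpos hdvd
  rw [h7_hk_defect_card p M hM B hB D hD]
  omega

end Cfsg.Agent.Lib.helper7.R1
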