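import Mathlib
import Cfsg.Agent.Lib.helper7.R1.Defs
import Cfsg.Agent.Lib.helper7.KleinDef9
import Cfsg.Agent.Lib.helper7.HKS8
import Cfsg.Agent.Lib.Helper25.BrauerPairAbelian2
import Cfsg.Agent.Lib.Helper25.BrauerPairExtMain
import Cfsg.Agent.Lib.Helper24.R1NIL3

/-!
Project R1: a block with `l(B) = 1` and `|D| = k(B) ≤ 4` is nilpotent.
-/

set_option autoImplicit false
set_option linter.unusedSectionVars false
set_option linter.unusedVariables false
set_option linter.style.haveILetI false
set_option maxHeartbeats 1600000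

namespace Cfsg.Agent.Lib.helper7.R1

open Cfsg.Agent.Lib.helper7 Cfsg.Agent.Lib.helper7.Br
open Cfsg.Agent.Lib.helper2 Cfsg.Agent.Lib.Helper25 Cfsg.Agent.Lib.Helper24 Cfsg.Agent.Lib.Helper24.R1

variable {G : Type*} [Group G]

/-- the inertial index divides the order of the automorphism group of `P` -/
theorem relIndex_dvd_card_mulAut [Finite G] (P T : Subgroup G)
    (hTN : T ≤ Subgroup.normalizer (P : Set G)) :
    (Subgroup.centralizer (P : Set G)).relIndex T ∣ Nat.card (MulAut P) := by
  classical
  set ψ : T →* MulAut P := P.normalizerMonoidHom.comp (Subgroup.inclusion hTN) with hψ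
  have hker : ψ.ker = (Subgroup.centralizer (P : Set G)).subgroupOf T := by
    rw [hψ, ← MonoidHom.comap_ker, Subgroup.normalizerMonoidHom_ker,
      Subgroup.comap_inclusion_subgroupOf]
  have h1 : (Subgroup.centralizer (P : Set G)).relIndex T = Nat.card ψ.range := by
    unfold Subgroup.relIndex
    rw [← hker, Subgroup.index_ker]
  rw [h1]
  exact Subgroup.card_subgroup_dvd_card _

theorem nilpotent_small [Finite G] (p : ℕ) [Fact p.Prime]
    (M : Ideal Cfsg.AlgInt) (hM : Cfsg.IsPModular p M) (B : Set (Cfsg.IrrCharacter G))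
    (hB : Cfsg.IsPBlock M B) (D : Subgroup G) (hD : Cfsg.IsDefectGroup p M B D)
    (hl : Cfsg.blockRank p B = 1) (hDk : Nat.card D = Nat.card B) (hk : Nat.card B ≤ 4)
    (hD1 : D ≠ ⊥) : Cfsg.IsNilpotentBlock p M B := by
  classical
  haveI : Fintype G := Fintype.ofFinite G
  have hp : p.Prime := Fact.out
  have hPr := hM.2.1.isPrime
  have hDp : IsPGroup p D := ef_isPGroup_of_defect hD
  have hcardD := h7_hk_defect_card p M hM B hB D hD
  have hD2 : 2 ≤ Nat.card D := by
    have h1 : Nat.card D ≠ 1 := fun h => hD1 (Subgroup.card_eq_one.mp h)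
    have h0 : 0 < Nat.card D := Nat.card_pos
    omega
  obtain ⟨e, he⟩ := bq_pair_at_defect p M hM D hDp B hB hD
  have hmax := bq_max_of_defect p M hM B D e he hD
  have heB : Cfsg.IsPBlock M e := he.1.2
  -- `D` is abelian
  have hab : ∀ x ∈ D, ∀ y ∈ D, x * y = y * x := by
    have hcomm : ∀ a b : D, a * b = b * a := by
      have hcases : Nat.card D = 2 ∨ Nat.card D = 3 ∨ Nat.card D = 4 := by omega
      rcases hcases with h | h | h
      · haveI : Fact (Nat.Prime 2) := ⟨Nat.prime_two⟩
        haveI := isCyclic_of_prime_card (α := D) (p := 2) h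
        exact fun a b => (IsCyclic.commGroup (α := D)).mul_comm a b
      · haveI : Fact (Nat.Prime 3) := ⟨Nat.prime_three⟩
        haveI := isCyclic_of_prime_card (α := D) (p := 3) h
        exact fun a b => (IsCyclic.commGroup (α := D)).mul_comm a b
      · haveI : Fact (Nat.Prime 2) := ⟨Nat.prime_two⟩
        have h' : Nat.card D = 2 ^ 2 := by rw [h]; norm_num
        exact fun a b => IsPGroup.commutative_of_card_eq_prime_sq h' a b
    intro x hx y hy
    have := hcomm ⟨x, hx⟩ ⟨y, hy⟩
    exact congrArg Subtype.val this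
  apply (bq_abelian_nilpotent_iff p M hM B D e hmax hab).mpr
  intro x hxN hxS
  by_contra hxC
  have hind := tp_pair_induced p M hM D B e he
  have hPC : D ≤ Subgroup.centralizer (D : Set G) := by
    intro u hu
    rw [Subgroup.mem_centralizer_iff]
    intro q hq
    exact hab q hq u hu
  set T : Subgroup G := Subgroup.normalizer (D : Set G) ⊓
    bq_stabSubgroup (Subgroup.centralizer (D : Set G)) e with hTdef
  have hT : ∀ g : G, g ∈ T ↔ (g ∈ Subgroup.normalizer (D : Set G) ∧
      Cfsg.StabilizesBlock (Subgroup.centralizer (D : Set G)) e g) := by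
    intro g
    rw [hTdef, Subgroup.mem_inf, bq_mem_stabSubgroup hPr _ e heB]
  have hTN : T ≤ Subgroup.normalizer (D : Set G) := inf_le_left
  have hidx := h7_kd_index p M hM B D hD hPC e hind T hT
  have hxT : x ∈ T := (hT x).mpr ⟨hxN, hxS⟩
  have hne1 : (Subgroup.centralizer (D : Set G)).relIndex T ≠ 1 := by
    intro h
    exact hxC (Subgroup.relIndex_eq_one.mp h hxT)
  have hdvdA := relIndex_dvd_card_mulAut D T hTN
  have hcases : Nat.card D = 2 ∨ Nat.card D = 3 ∨ Nat.card D = 4 := by omega
  rcases hcases with h2 | h3 | h4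
  · -- order two: no automorphisms
    haveI : Fact (Nat.Prime 2) := ⟨Nat.prime_two⟩
    haveI := isCyclic_of_prime_card (α := D) (p := 2) h2
    rw [IsCyclic.card_mulAut D, h2] at hdvdA
    have : Nat.totient 2 = 1 := by decide
    rw [this] at hdvdA
    exact hne1 (Nat.dvd_one.mp hdvdA)
  · -- order three
    have hp3 : p = 3 := by
      have h1 : p ∣ 3 := by
        have h5 : p ∣ p ^ Cfsg.blockDefect p B := by
          apply dvd_pow_self
          intro h0
          rw [h0, pow_zero] at hcardD
          omega
        rw [← hcardD, h3] at h5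
        exact h5
      exact (Nat.prime_dvd_prime_iff_eq hp Nat.prime_three).mp h1
    subst hp3
    have := card_eq_rank_add_one M hM B hB D h3 e hmax x hxN hxS hxC
    rw [hl] at this
    omega
  · -- order four
    have hp2 : p = 2 := by
      have h1 : p ∣ 4 := by
        have h5 : p ∣ p ^ Cfsg.blockDefect p B := by
          apply dvd_pow_self
          intro h0
          rw [h0, pow_zero] at hcardD
          omega
        rw [← hcardD, h4] at h5
        exact h5
      have h2 : p ∣ 2 ^ 2 := by norm_num; exact h1
      exact (Nat.prime_dvd_prime_iff_eq hp Nat.prime_two).mp (hp.dvd_of_dvd_pow h2)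
    subst hp2
    by_cases hcyc : IsCyclic D
    · haveI := hcyc
      rw [IsCyclic.card_mulAut D, h4] at hdvdA
      have : Nat.totient 4 = 2 := by decide
      rw [this] at hdvdA
      have h5 : (Subgroup.centralizer (D : Set G)).relIndex T = 1 ∨
          (Subgroup.centralizer (D : Set G)).relIndex T = 2 :=
        (Nat.dvd_prime Nat.prime_two).mp hdvdA
      rcases h5 with h5 | h5
      · exact hne1 h5
      · exact hidx (by rw [h5])
    · have hV : IsKleinFour D := by
        refine ⟨h4, ?_⟩
        exact (not_isCyclic_iff_exponent_eq_prime Nat.prime_two (by rw [h4]; norm_num)).mp hcyc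
      have hdvd := h7_kd_relIndex_dvd D T hTN
      rw [h4] at hdvd
      have he3 : (Subgroup.centralizer (D : Set G)).relIndex T = 3 := by
        have h8 : Nat.Coprime ((Subgroup.centralizer (D : Set G)).relIndex T) (2 ^ 3) :=
          Nat.Coprime.pow_right 3
            (Nat.Coprime.symm ((Nat.Prime.coprime_iff_not_dvd Nat.prime_two).mpr hidx))
        have h24 : (Subgroup.centralizer (D : Set G)).relIndex T ∣ 3 * 2 ^ 3 := by
          have : (4 : ℕ).factorial = 3 * 2 ^ 3 := by decide
          rw [← this]
          exact hdvd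
        have h3' := Nat.Coprime.dvd_of_dvd_mul_right h8 h24
        rcases (Nat.dvd_prime Nat.prime_three).mp h3' with h | h
        · exact absurd h hne1
        · exact h
      have hdefect : Cfsg.blockDefect 2 B = 2 := by
        rw [h4] at hcardD
        have h2 : (2 : ℕ) ^ 2 = 2 ^ Cfsg.blockDefect 2 B := by rw [← hcardD]; norm_num
        exact (Nat.pow_right_injective (le_refl 2) h2).symm
      have hcardB : Nat.card B = 4 := by rw [← hDk, h4]
      have := h7_kd_rank_three M hM B hB D hV e hmax hdefect hcardB T hT he3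
      omega

end Cfsg.Agent.Lib.helper7.R1
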