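import Mathlib
import Cfsg.Agent.Lib.helper7.R1.Main
import Cfsg.Agent.Lib.helper7.R1.Nil

set_option autoImplicit false
set_option linter.unusedSectionVars false
set_option linter.unusedVariables false
set_option linter.style.haveILetI false

namespace Cfsg.Agent.Lib.helper7.R1

open Cfsg.Agent.Lib.helper7

theorem main {G : Type*} [Group G] [Finite G] (p : ℕ) [Fact p.Prime] (M : Ideal Cfsg.AlgInt)
    (hM : Cfsg.IsPModular p M) (B : Set (Cfsg.IrrCharacter G)) (hB : Cfsg.IsPBlock M B)
    (D : Subgroup G) (hD : Cfsg.IsDefectGroup p M B D) (hD1 : D ≠ ⊥)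
    (hl : Cfsg.blockRank p B = 1) (hk : Nat.card B ≤ 4) :
    Cfsg.IsNilpotentBlock p M B ∧ Nat.card D = Nat.card B ∧ (p = 2 ∨ p = 3) := by
  have hp : p.Prime := Fact.out
  have h1 := card_defect_eq p M hM B hB D hD hl hk
  refine ⟨nilpotent_small p M hM B hB D hD hl h1 hk hD1, h1, ?_⟩
  have hcardD := h7_hk_defect_card p M hM B hB D hD
  have hD2 : 2 ≤ Nat.card D := by
    have h2 : Nat.card D ≠ 1 := fun h => hD1 (Subgroup.card_eq_one.mp h)
    have h0 : 0 < Nat.card D := Nat.card_pos
    omega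
  have hpd : p ∣ Nat.card D := by
    rw [hcardD]
    apply dvd_pow_self
    intro h0
    rw [h0, pow_zero] at hcardD
    omega
  have hcases : Nat.card D = 2 ∨ Nat.card D = 3 ∨ Nat.card D = 4 := by omega
  rcases hcases with h | h | h
  · left
    rw [h] at hpd
    exact (Nat.prime_dvd_prime_iff_eq hp Nat.prime_two).mp hpd
  · right
    rw [h] at hpd
    exact (Nat.prime_dvd_prime_iff_eq hp Nat.prime_three).mp hpd
  · left
    rw [h] at hpd
    have h2 : p ∣ 2 ^ 2 := by norm_num; exact hpd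
    exact (Nat.prime_dvd_prime_iff_eq hp Nat.prime_two).mp (hp.dvd_of_dvd_pow h2)

end Cfsg.Agent.Lib.helper7.R1
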